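import Mathlib.RingTheory.Smooth.StandardSmoothCotangent
import Mathlib.RingTheory.Etale.Basic
import Mathlib.RingTheory.Unramified.Basic
import Mathlib.RingTheory.Unramified.Finite
import Mathlib.Algebra.Algebra.Epi
import Mathlib.Algebra.CharP.Lemmas
import Mathlib.Algebra.CharP.Algebra
import Mathlib.RingTheory.Noetherian.Nilpotent
import Mathlib.RingTheory.Ideal.Cotangent
import Mathlib.LinearAlgebra.Matrix.Block
import Mathlib.LinearAlgebra.Matrix.SchurComplement
import Mathlib.RingTheory.IntegralClosure.IsIntegralClosure.Basic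
import Mathlib.RingTheory.Finiteness.Basic
import Mathlib.RingTheory.TensorProduct.Maps

/-!
# Finite etale algebras over a quotient of a ring of prime characteristic
-/

set_option autoImplicit false
set_option linter.style.haveILetI false
set_option linter.unusedSectionVars false

universe u

open TensorProduct MvPolynomial

namespace Groth.L28.CharP

variable {p : ℕ} [Fact p.Prime]

/-- A nonzero ring receiving one of prime characteristic has that characteristic. -/
theorem charP_of_hom {R S : Type*} [CommRing R] [CommRing S] [Nontrivial S] [CharP R p] (f : R →+* S) : CharP S p :=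
  ringChar.of_eq (CharP.ringChar_of_prime_eq_zero Fact.out (by rw [← map_natCast f, CharP.cast_eq_zero R p, map_zero]))

section Gen

variable {A B : Type u} [CommRing A] [CommRing B] [Algebra A B] [Module.Finite A B] [Algebra.FormallyUnramified A B]
  [CharP B p]

/-- A finite unramified algebra is generated by the powers of exponent the characteristic. -/
theorem adjoin_range_pow : Algebra.adjoin A (Set.range fun b : B => b ^ p) = ⊤ := by
  let S := Algebra.adjoin A (Set.range fun b : B => b ^ p)
  haveI : Module.Finite S B := Module.Finite.of_restrictScalars_finite A S B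
  haveI : Algebra.FormallyUnramified S B := Algebra.FormallyUnramified.of_restrictScalars A S B
  have hidem : IsIdempotentElem (KaehlerDifferential.ideal S B) :=
    (Ideal.cotangent_subsingleton_iff _).1 (inferInstanceAs (Subsingleton (KaehlerDifferential S B)))
  have hnil : KaehlerDifferential.ideal S B ≤ nilradical (B ⊗[S] B) := by
    rw [← KaehlerDifferential.span_range_eq_ideal S B, Ideal.span_le]
    rintro _ ⟨b, rfl⟩
    refine ⟨p, ?_⟩
    obtain hB | hB := subsingleton_or_nontrivial (B ⊗[S] B)
    · exact Subsingleton.elim _ _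
    · haveI : ExpChar (B ⊗[S] B) p := by
        haveI : CharP (B ⊗[S] B) p := charP_of_hom (Algebra.TensorProduct.includeLeftRingHom : B →+* B ⊗[S] B)
        exact ExpChar.prime (Fact.out)
      let s : S := ⟨b ^ p, Algebra.subset_adjoin ⟨b, rfl⟩⟩
      rw [sub_pow_expChar, Algebra.TensorProduct.tmul_pow, Algebra.TensorProduct.tmul_pow, one_pow]
      have h1 : s • (1 : B) = b ^ p := mul_one _
      rw [← h1, tmul_smul, smul_tmul', sub_self]
      rfl
  have hbot : KaehlerDifferential.ideal S B = ⊥ := by
    obtain ⟨n, hn⟩ := (Ideal.FG.isNilpotent_iff_le_nilradical (KaehlerDifferential.ideal_fg S B)).2 hnil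
    rcases n with _ | n
    · rw [pow_zero, Ideal.one_eq_top] at hn
      exact le_bot_iff.1 (le_top.trans (hn.trans Ideal.zero_eq_bot).le)
    · rwa [hidem.pow_succ_eq, Ideal.zero_eq_bot] at hn
  haveI : Algebra.IsEpi S B := by
    rw [Algebra.isEpi_iff_forall_one_tmul_eq]
    intro b
    have h1 := KaehlerDifferential.one_smul_sub_smul_one_mem_ideal S b
    rw [hbot, Ideal.mem_bot, sub_eq_zero] at h1
    exact h1
  refine eq_top_iff.2 fun b _ => ?_
  obtain ⟨s, rfl⟩ := (Algebra.isEpi_iff_surjective_algebraMap_of_finite (R := S) (A := B)).1 ‹_› b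
  exact s.2

/-- Powers of generators of a finite unramified algebra generate it. -/
theorem span_pow_eq_top {n : ℕ} {b : Fin n → B} (hb : Submodule.span A (Set.range b) = ⊤) :
    Submodule.span A (Set.range fun i => b i ^ p) = ⊤ := by
  let N := Submodule.span A (Set.range fun i => b i ^ p)
  have hpow : ∀ x : B, x ^ p ∈ N := fun x => by
    induction (show x ∈ Submodule.span A (Set.range b) from hb ▸ Submodule.mem_top) using Submodule.span_induction with
    | mem x hx => obtain ⟨i, rfl⟩ := hx; exact Submodule.subset_span ⟨i, rfl⟩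
    | zero => rw [zero_pow (Fact.out : p.Prime).ne_zero]; exact zero_mem _
    | add x y _ _ hx hy => rw [add_pow_expChar]; exact add_mem hx hy
    | smul a x _ hx => rw [smul_pow]; exact N.smul_mem _ hx
  refine eq_top_iff.2 fun x _ => ?_
  have hx : x ∈ Subalgebra.toSubmodule (Algebra.adjoin A (Set.range fun b : B => b ^ p)) := by
    rw [adjoin_range_pow]; trivial
  rw [Algebra.adjoin_eq_span] at hx
  refine Submodule.span_le.2 (fun y hy => ?_) hx
  have hy' : y ∈ MonoidHom.mrange (powMonoidHom p : B →* B) :=
    (Submonoid.closure_le.2 fun z hz => by obtain ⟨w, rfl⟩ := hz; exact ⟨w, rfl⟩) hy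
  obtain ⟨z, rfl⟩ := hy'
  exact hpow z

end Gen

section Cover

variable (p) {R : Type u} [CommRing R] {σ : Type} [Fintype σ] [DecidableEq σ] (U : Matrix σ σ R)

/-- The equations prescribing the powers of the variables. -/
noncomputable abbrev eqn (j : σ) : MvPolynomial σ R := X j ^ p - ∑ i, C (U j i) * X i

/-- The algebra they define. -/
abbrev Cov : Type u := MvPolynomial σ R ⧸ Ideal.span (Set.range (eqn p U))

theorem etale_cov [CharP R p] (hU : IsUnit U) : Algebra.Etale R (Cov p U) := by
  let P := Algebra.PreSubmersivePresentation.naive (R := R) (v := eqn p U) (id : σ → σ) Function.injective_id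
  have hj : P.jacobiMatrix = fun i j => - MvPolynomial.C (U j i) := by
    funext i j
    rw [Algebra.PreSubmersivePresentation.jacobiMatrix_naive, id, map_sub, pderiv_pow,
      show (p : MvPolynomial σ R) = 0 from CharP.cast_eq_zero _ p, zero_mul, zero_mul, zero_sub, map_sum,
      Finset.sum_eq_single i]
    · simp
    · intro k _ hk
      simp [pderiv_X_of_ne hk]
    · exact fun h => absurd (Finset.mem_univ i) h
  have hdet : IsUnit (Matrix.det P.jacobiMatrix) := by
    rw [hj, show (fun i j => - MvPolynomial.C (U j i) : Matrix σ σ (MvPolynomial σ R)) =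
      - ((U.map MvPolynomial.C).transpose) from rfl, Matrix.det_neg, Matrix.det_transpose, ← RingHom.mapMatrix_apply, ← RingHom.map_det]
    exact (IsUnit.pow _ isUnit_one.neg).mul (((Matrix.isUnit_iff_isUnit_det U).1 hU).map MvPolynomial.C)
  let Q : Algebra.SubmersivePresentation R (Cov p U) σ σ :=
    { toPreSubmersivePresentation := P
      jacobian_isUnit := by
        rw [Algebra.PreSubmersivePresentation.jacobian_eq_jacobiMatrix_det]
        exact hdet.map _ }
  haveI : Algebra.IsStandardSmoothOfRelativeDimension 0 R (Cov p U) :=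
    Q.isStandardSmoothOfRelativeDimension (by simp [Algebra.Presentation.dimension])
  infer_instance

theorem finite_cov : Module.Finite R (Cov p U) := by
  classical
  let x : σ → Cov p U := fun i => Ideal.Quotient.mk _ (X i)
  let N : Submodule R (Cov p U) := Submodule.span R (Set.range fun e : σ → Fin p => ∏ i, x i ^ (e i).val)
  have hp0 : 0 < p := (Fact.out : p.Prime).pos
  have hrel : ∀ j, x j ^ p = ∑ i, U j i • x i := fun j => by
    have h : Ideal.Quotient.mk (Ideal.span (Set.range (eqn p U))) (eqn p U j) = 0 :=
      Ideal.Quotient.eq_zero_iff_mem.2 (Ideal.subset_span ⟨j, rfl⟩)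
    rw [map_sub, map_pow, sub_eq_zero, map_sum] at h
    refine h.trans (Finset.sum_congr rfl fun i _ => ?_)
    rw [map_mul]
    exact (Algebra.smul_def (U j i) (x i)).symm
  have hall : ∀ (d : ℕ) (e : σ → ℕ), ∑ i, e i ≤ d → ∏ i, x i ^ e i ∈ N := by
    intro d
    induction d using Nat.strong_induction_on with
    | _ d ih =>
      intro e he
      by_cases h : ∀ i, e i < p
      · exact Submodule.subset_span ⟨fun i => ⟨e i, h i⟩, rfl⟩
      obtain ⟨j, hj⟩ := not_forall.1 h
      rw [not_lt] at hj
      let e' : σ → ℕ := Function.update e j (e j - p)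
      have hprod : ∏ i, x i ^ e i = x j ^ p * ∏ i, x i ^ e' i := by
        rw [← Finset.mul_prod_erase _ _ (Finset.mem_univ j), ← Finset.mul_prod_erase _ _ (Finset.mem_univ j),
          ← mul_assoc, ← pow_add, show e' j = e j - p from Function.update_self .., Nat.add_sub_cancel' hj]
        congr 1
        exact Finset.prod_congr rfl fun i hi => by rw [show e' i = e i from
          Function.update_of_ne (Finset.ne_of_mem_erase hi) ..]
      have hsum : ∑ i, e i = p + ∑ i, e' i := by
        rw [← Finset.add_sum_erase _ _ (Finset.mem_univ j), ← Finset.add_sum_erase _ e' (Finset.mem_univ j),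
          ← add_assoc, show e' j = e j - p from Function.update_self .., Nat.add_sub_cancel' hj]
        congr 1
        exact Finset.sum_congr rfl fun i hi => (Function.update_of_ne (Finset.ne_of_mem_erase hi) ..).symm
      rw [hprod, hrel, Finset.sum_mul]
      refine Submodule.sum_mem _ fun i _ => ?_
      rw [smul_mul_assoc]
      refine Submodule.smul_mem _ _ ?_
      let e'' : σ → ℕ := Function.update e' i (e' i + 1)
      have hprod' : x i * ∏ k, x k ^ e' k = ∏ k, x k ^ e'' k := by
        rw [← Finset.mul_prod_erase _ _ (Finset.mem_univ i), ← Finset.mul_prod_erase _ _ (Finset.mem_univ i),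
          ← mul_assoc, ← pow_succ', show e'' i = e' i + 1 from Function.update_self ..]
        congr 1
        exact Finset.prod_congr rfl fun k hk => by rw [show e'' k = e' k from
          Function.update_of_ne (Finset.ne_of_mem_erase hk) ..]
      have hsum' : ∑ k, e'' k = 1 + ∑ k, e' k := by
        rw [← Finset.add_sum_erase _ _ (Finset.mem_univ i), ← Finset.add_sum_erase _ e' (Finset.mem_univ i),
          ← add_assoc, show e'' i = e' i + 1 from Function.update_self .., add_comm (e' i) 1]
        congr 1
        exact Finset.sum_congr rfl fun k hk => Function.update_of_ne (Finset.ne_of_mem_erase hk) ..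
      rw [hprod']
      have := (Fact.out : p.Prime).two_le
      exact ih (∑ k, e'' k) (by omega) e'' le_rfl
  refine ⟨⟨Finset.image (fun e : σ → Fin p => ∏ i, x i ^ (e i).val) Finset.univ, ?_⟩⟩
  rw [Finset.coe_image, Finset.coe_univ, Set.image_univ]
  refine eq_top_iff.2 fun z hz => ?_
  clear hz
  obtain ⟨q, rfl⟩ := Ideal.Quotient.mk_surjective z
  induction q using MvPolynomial.induction_on' with
  | monomial d a =>
    rw [MvPolynomial.monomial_eq, Finsupp.prod_fintype _ _ (fun i => pow_zero _), map_mul, map_prod]
    simp only [map_pow]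
    rw [show Ideal.Quotient.mk (Ideal.span (Set.range (eqn p U))) (C a) = algebraMap R (Cov p U) a from rfl,
      ← Algebra.smul_def]
    exact Submodule.smul_mem _ _ (hall _ (fun i => d i) le_rfl)
  | add q q' hq hq' => rw [map_add]; exact add_mem hq hq'

variable {A B : Type u} [CommRing A] [Algebra R A] [CommRing B] [Algebra A B]

/-- A map out of the algebra given by a tuple satisfying the equations. -/
theorem exists_surjective (b : σ → B) (hb : Submodule.span A (Set.range b) = ⊤)
    (h : ∀ j, b j ^ p = ∑ i, algebraMap R A (U j i) • b i) :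
    ∃ ψ : A ⊗[R] Cov p U →ₐ[A] B, Function.Surjective ψ := by
  letI : Algebra R B := ((algebraMap A B).comp (algebraMap R A)).toAlgebra
  haveI : IsScalarTower R A B := IsScalarTower.of_algebraMap_eq fun _ => rfl
  let φ : Cov p U →ₐ[R] B := Ideal.Quotient.liftₐ _ (MvPolynomial.aeval b) fun a ha => by
    have hle : Ideal.span (Set.range (eqn p U)) ≤ RingHom.ker (MvPolynomial.aeval b : MvPolynomial σ R →ₐ[R] B) := by
      rw [Ideal.span_le]
      rintro _ ⟨j, rfl⟩
      simp [h j, Algebra.smul_def, IsScalarTower.algebraMap_apply R A B]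
    exact hle ha
  let ψ : A ⊗[R] Cov p U →ₐ[A] B := Algebra.TensorProduct.lift (Algebra.ofId A B) φ fun _ _ => Commute.all _ _
  refine ⟨ψ, fun y => ?_⟩
  have hle : Submodule.span A (Set.range b) ≤ LinearMap.range ψ.toLinearMap := by
    rw [Submodule.span_le]
    rintro _ ⟨i, rfl⟩
    refine ⟨1 ⊗ₜ[R] Ideal.Quotient.mk _ (X i), ?_⟩
    show ψ (1 ⊗ₜ[R] Ideal.Quotient.mk _ (X i)) = b i
    simp [ψ, φ]
    all_goals exact MvPolynomial.aeval_X b i
  exact hle (hb ▸ Submodule.mem_top)

end Cover

/-- Over a ring of prime characteristic finite etale algebras over a quotient are dominated. -/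
theorem exists_cover {R A B : Type u} [CommRing R] [CommRing A] [CommRing B] [CharP R p] [Algebra R A]
    (hRA : Function.Surjective (algebraMap R A)) [Algebra A B] [Module.Finite A B] [Algebra.FormallyUnramified A B] :
    ∃ (C : Type u) (_ : CommRing C) (_ : Algebra R C), Module.Finite R C ∧ Algebra.Etale R C ∧
      ∃ ψ : A ⊗[R] C →ₐ[A] B, Function.Surjective ψ := by
  classical
  obtain h | h := subsingleton_or_nontrivial B
  · refine ⟨R, inferInstance, inferInstance, inferInstance, inferInstance,
      ((Algebra.ofId A B).comp (Algebra.TensorProduct.rid R A A).toAlgHom), fun y => ⟨0, Subsingleton.elim _ _⟩⟩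
  haveI : CharP B p := charP_of_hom ((algebraMap A B).comp (algebraMap R A))
  obtain ⟨n, b, hb⟩ := Module.Finite.exists_fin (R := A) (M := B)
  have hb' := span_pow_eq_top (p := p) hb
  choose g hg using fun j => (Submodule.mem_span_range_iff_exists_fun A).1
    (show b j ^ p ∈ Submodule.span A (Set.range b) from hb ▸ Submodule.mem_top)
  choose k hk using fun i => (Submodule.mem_span_range_iff_exists_fun A).1
    (show b i ∈ Submodule.span A (Set.range fun j => b j ^ p) from hb' ▸ Submodule.mem_top)
  choose g' hg' using fun j i => hRA (g j i)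
  choose k' hk' using fun j i => hRA (k j i)
  let G : Matrix (Fin n) (Fin n) R := Matrix.of g'
  let H : Matrix (Fin n) (Fin n) R := Matrix.of k'
  let U : Matrix (Fin n ⊕ Fin n) (Fin n ⊕ Fin n) R := Matrix.fromBlocks G 1 (1 - H * G) (-H)
  have hU : IsUnit U := by
    refine IsUnit.of_mul_eq_one (Matrix.fromBlocks H 1 (1 - G * H) (-G)) ?_
    rw [Matrix.fromBlocks_multiply, ← Matrix.fromBlocks_one]
    congr 1
    · rw [Matrix.one_mul]; abel
    · rw [Matrix.mul_one, Matrix.one_mul, add_neg_cancel]
    · rw [Matrix.sub_mul, Matrix.one_mul, Matrix.neg_mul, Matrix.mul_sub, Matrix.mul_one, Matrix.mul_assoc]; abel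
    · rw [Matrix.mul_one, Matrix.neg_mul, Matrix.mul_neg, neg_neg]; abel
  refine ⟨Cov p U, inferInstance, inferInstance, finite_cov p U, etale_cov p U hU,
    exists_surjective p U (Sum.elim b 0) ?_ ?_⟩
  · refine eq_top_iff.2 (hb.ge.trans (Submodule.span_mono ?_))
    rintro _ ⟨i, rfl⟩
    exact ⟨Sum.inl i, rfl⟩
  · rintro (j | j)
    · rw [Fintype.sum_sum_type]
      simp [U, G, hg', hg j]
    · rw [Fintype.sum_sum_type]
      simp only [U, Sum.elim_inr, Pi.zero_apply, zero_pow (Fact.out : p.Prime).ne_zero, smul_zero,
        Finset.sum_const_zero, add_zero, Sum.elim_inl, Matrix.fromBlocks_apply₂₁, Matrix.sub_apply, map_sub, sub_smul,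
        Finset.sum_sub_distrib]
      have h1 : ∑ i, algebraMap R A ((1 : Matrix (Fin n) (Fin n) R) j i) • b i = b j := by
        simp [Matrix.one_apply, apply_ite (algebraMap R A), ite_smul]
      have h2 : ∑ i, algebraMap R A ((H * G) j i) • b i = b j := by
        simp only [Matrix.mul_apply, map_sum, map_mul, Finset.sum_smul, H, G, Matrix.of_apply, hg', hk', mul_smul]
        rw [Finset.sum_comm]
        simp only [← Finset.smul_sum, hg]
        exact hk j
      rw [h1, h2, sub_self]

end Groth.L28.CharP
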